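import Mathlib
import Cfsg.Prelude.Def_Characters
import Cfsg.Agent.Lib.Characters.Inner

/-!
# The Frobenius-Schur indicator

`nu χ = |G|⁻¹ ∑ χ(s*s)`.  For a matrix representation `A` the averaging operator
`M ↦ |G|⁻¹ ∑ (A g)ᵀ M (A g)` is a projection with trace `|G|⁻¹ ∑ χ(g)²`, and the trace of its
composition with transposition is `nu χ`.
-/

namespace Cfsg.Agent.FrobeniusSchur

open Module Matrix
open scoped ComplexConjugate

variable {G : Type*} [Group G]

/-- The Frobenius-Schur indicator. -/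
noncomputable def nu [Fintype G] (χ : G → ℂ) : ℂ :=
  (Nat.card G : ℂ)⁻¹ * ∑ s : G, χ (s * s)

/-- The conjugate of an irreducible character is irreducible. -/
theorem isIrrCharacter_conj [Finite G] {χ : G → ℂ} (h : Cfsg.IsIrrCharacter G χ) :
    Cfsg.IsIrrCharacter G (fun g => conj (χ g)) := by
  haveI := Fintype.ofFinite G
  have hc : Cfsg.IsCharacter G (fun g => conj (χ g)) := by
    obtain ⟨n, ρ, _, rfl⟩ := h
    have : (fun g => conj (ρ.character g)) = ρ.dual.character := by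
      funext g; rw [Representation.char_dual, Characters.rep_char_inv]
    rw [this]; exact Characters.isCharacter_character _
  rw [Characters.isIrrCharacter_iff_norm_one]
  refine ⟨hc, ?_⟩
  have h1 := congrArg conj (Characters.classInner_isIrr_self h)
  rw [map_one] at h1
  rw [← h1]
  simp [Cfsg.classInner, map_sum]

/-- The conjugate of an irreducible character, as an irreducible character. -/
noncomputable def conjIrr [Finite G] (χ : Cfsg.IrrCharacter G) : Cfsg.IrrCharacter G :=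
  ⟨fun g => conj ((χ : G → ℂ) g), isIrrCharacter_conj χ.2⟩

@[simp] theorem conjIrr_coe [Finite G] (χ : Cfsg.IrrCharacter G) (g : G) :
    (conjIrr χ : G → ℂ) g = conj ((χ : G → ℂ) g) := rfl

variable {n : ℕ} (ρ : Representation ℂ G (Fin n → ℂ))

/-- The matrix of `ρ g`. -/
noncomputable def mat (g : G) : Matrix (Fin n) (Fin n) ℂ := LinearMap.toMatrix' (ρ g)

theorem mat_mul (g h : G) : mat ρ (g * h) = mat ρ g * mat ρ h := by
  rw [mat, mat, mat, map_mul, Module.End.mul_eq_comp, LinearMap.toMatrix'_comp]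

theorem mat_one : mat ρ 1 = 1 := by
  rw [mat, map_one, Module.End.one_eq_id, LinearMap.toMatrix'_id]

theorem trace_mat (g : G) : (mat ρ g).trace = ρ.character g := by
  rw [mat, Representation.character, LinearMap.trace_eq_matrix_trace ℂ (Pi.basisFun ℂ (Fin n))]
  simp [LinearMap.toMatrix_eq_toMatrix']

/-- The action of `g` on bilinear forms. -/
noncomputable def act (g : G) : Matrix (Fin n) (Fin n) ℂ →ₗ[ℂ] Matrix (Fin n) (Fin n) ℂ where
  toFun M := (mat ρ g)ᵀ * M * mat ρ g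
  map_add' M N := by simp [Matrix.mul_add, Matrix.add_mul]
  map_smul' c M := by simp

theorem act_apply (g : G) (M : Matrix (Fin n) (Fin n) ℂ) :
    act ρ g M = (mat ρ g)ᵀ * M * mat ρ g := rfl

theorem act_act (g h : G) (M : Matrix (Fin n) (Fin n) ℂ) :
    act ρ h (act ρ g M) = act ρ (g * h) M := by
  simp [act_apply, mat_mul, Matrix.mul_assoc]

/-- Transposition of matrices. -/
def trn : Matrix (Fin n) (Fin n) ℂ →ₗ[ℂ] Matrix (Fin n) (Fin n) ℂ where
  toFun M := Mᵀ
  map_add' _ _ := rfl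
  map_smul' _ _ := rfl

@[simp] theorem trn_apply (M : Matrix (Fin n) (Fin n) ℂ) : trn M = Mᵀ := rfl

theorem single_entry (A B : Matrix (Fin n) (Fin n) ℂ) (k l i j : Fin n) :
    (A * Matrix.single k l (1 : ℂ) * B) i j = A i k * B l j := by
  rw [Matrix.mul_apply, Finset.sum_eq_single l]
  · rw [Matrix.mul_single_apply_same, mul_one]
  · intro b _ hb
    rw [Matrix.mul_single_apply_of_ne (hbj := hb), zero_mul]
  · simp

theorem trace_act (g : G) :
    LinearMap.trace ℂ _ (act ρ g) = ρ.character g ^ 2 := by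
  rw [LinearMap.trace_eq_matrix_trace ℂ (Matrix.stdBasis ℂ (Fin n) (Fin n)), ← trace_mat ρ g,
    sq, Matrix.trace, Matrix.trace, Fintype.sum_prod_type, Finset.sum_mul_sum]
  refine Finset.sum_congr rfl fun k _ => Finset.sum_congr rfl fun l _ => ?_
  rw [Matrix.diag_apply, LinearMap.toMatrix_apply, Matrix.stdBasis_eq_single, act_apply]
  simp [Matrix.stdBasis, single_entry]

theorem trace_trn_act (g : G) :
    LinearMap.trace ℂ _ (trn ∘ₗ act ρ g) = ρ.character (g * g) := by
  rw [LinearMap.trace_eq_matrix_trace ℂ (Matrix.stdBasis ℂ (Fin n) (Fin n)),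
    ← trace_mat ρ (g * g), mat_mul, Matrix.trace, Matrix.trace, Fintype.sum_prod_type]
  refine Finset.sum_congr rfl fun k _ => ?_
  rw [Matrix.diag_apply, Matrix.mul_apply]
  refine Finset.sum_congr rfl fun l _ => ?_
  rw [Matrix.diag_apply, LinearMap.toMatrix_apply, Matrix.stdBasis_eq_single, LinearMap.comp_apply,
    act_apply]
  simp [Matrix.stdBasis, ← Matrix.mul_assoc, single_entry, mul_comm]

variable [Fintype G]

/-- The averaging projection onto the invariant bilinear forms. -/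
noncomputable def avg : Matrix (Fin n) (Fin n) ℂ →ₗ[ℂ] Matrix (Fin n) (Fin n) ℂ :=
  (Nat.card G : ℂ)⁻¹ • ∑ g : G, act ρ g

theorem avg_fixed {M : Matrix (Fin n) (Fin n) ℂ}
    (hM : ∀ g : G, (mat ρ g)ᵀ * M * mat ρ g = M) : avg ρ M = M := by
  simp [avg, act_apply, hM, Nat.card_eq_fintype_card, ← Nat.cast_smul_eq_nsmul ℂ, smul_smul]

theorem avg_invariant (M : Matrix (Fin n) (Fin n) ℂ) (h : G) :
    (mat ρ h)ᵀ * avg ρ M * mat ρ h = avg ρ M := by
  rw [← act_apply ρ h]
  simp only [avg, LinearMap.smul_apply, LinearMap.sum_apply, map_smul, map_sum, act_act]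
  congr 1
  exact Fintype.sum_equiv (Equiv.mulRight h) _ _ fun g => rfl

theorem trace_avg : LinearMap.trace ℂ _ (avg ρ) =
    (Nat.card G : ℂ)⁻¹ * ∑ g : G, ρ.character g ^ 2 := by
  simp [avg, trace_act]

theorem trace_trn_avg : LinearMap.trace ℂ _ (trn ∘ₗ avg ρ) = nu ρ.character := by
  rw [avg, LinearMap.comp_smul, map_smul, smul_eq_mul, nu]
  congr 1
  rw [show trn ∘ₗ (∑ g : G, act ρ g) = ∑ g : G, trn ∘ₗ act ρ g from
    LinearMap.ext fun M => by simp only [LinearMap.comp_apply, LinearMap.sum_apply, map_sum],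
    map_sum]
  simp only [trace_trn_act]

/-- If the average of `χ²` vanishes, so does the indicator and there is no invariant form. -/
theorem of_trace_zero (h : (Nat.card G : ℂ)⁻¹ * ∑ g : G, ρ.character g ^ 2 = 0) :
    nu ρ.character = 0 ∧ ∀ M, (∀ g : G, (mat ρ g)ᵀ * M * mat ρ g = M) → M = 0 := by
  have hproj : LinearMap.IsProj (LinearMap.range (avg ρ)) (avg ρ) :=
    ⟨fun x => ⟨x, rfl⟩, fun x hx => by
      obtain ⟨y, rfl⟩ := hx; exact avg_fixed ρ (avg_invariant ρ y)⟩
  have h0 := hproj.trace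
  rw [trace_avg, h] at h0
  have hr : LinearMap.range (avg ρ) = ⊥ := by
    rw [← Submodule.finrank_eq_zero (R := ℂ)]; exact_mod_cast h0.symm
  have havg : avg ρ = 0 := LinearMap.range_eq_bot.1 hr
  refine ⟨?_, fun M hM => ?_⟩
  · rw [← trace_trn_avg ρ, havg, LinearMap.comp_zero, map_zero]
  · rw [← avg_fixed ρ hM, havg, LinearMap.zero_apply]

/-- If the average of `χ²` is one, the invariant forms are a line on which transposition acts by
the indicator, which is a sign. -/
theorem of_trace_one (h : (Nat.card G : ℂ)⁻¹ * ∑ g : G, ρ.character g ^ 2 = 1) :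
    (∃ M, M ≠ 0 ∧ ∀ g : G, (mat ρ g)ᵀ * M * mat ρ g = M) ∧
      (nu ρ.character = 1 ∨ nu ρ.character = -1) ∧
      ∀ M, (∀ g : G, (mat ρ g)ᵀ * M * mat ρ g = M) → Mᵀ = nu ρ.character • M := by
  have hproj : LinearMap.IsProj (LinearMap.range (avg ρ)) (avg ρ) :=
    ⟨fun x => ⟨x, rfl⟩, fun x hx => by
      obtain ⟨y, rfl⟩ := hx; exact avg_fixed ρ (avg_invariant ρ y)⟩
  have h0 := hproj.trace
  rw [trace_avg, h] at h0
  have hr : finrank ℂ (LinearMap.range (avg ρ)) = 1 := by exact_mod_cast h0.symm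
  obtain ⟨M0, hM0, hspan⟩ := finrank_eq_one_iff'.1 hr
  have hne : (M0 : Matrix (Fin n) (Fin n) ℂ) ≠ 0 := fun e => hM0 (Subtype.ext e)
  have hinv : ∀ g : G, (mat ρ g)ᵀ * (M0 : Matrix (Fin n) (Fin n) ℂ) * mat ρ g = M0 := by
    intro g
    obtain ⟨y, hy⟩ := M0.2
    rw [← hy]; exact avg_invariant ρ y g
  have hmult : ∀ M, ∃ c : ℂ, avg ρ M = c • (M0 : Matrix (Fin n) (Fin n) ℂ) := fun M => by
    obtain ⟨c, hc⟩ := hspan ⟨_, LinearMap.mem_range_self (avg ρ) M⟩
    exact ⟨c, (congrArg Subtype.val hc).symm⟩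
  -- transposition preserves the line
  have htinv : ∀ g : G, (mat ρ g)ᵀ * (M0 : Matrix (Fin n) (Fin n) ℂ)ᵀ * mat ρ g =
      (M0 : Matrix (Fin n) (Fin n) ℂ)ᵀ := fun g => by
    conv_rhs => rw [← hinv g]
    simp [Matrix.transpose_mul, Matrix.mul_assoc]
  obtain ⟨ε, hε⟩ := hmult (M0 : Matrix (Fin n) (Fin n) ℂ)ᵀ
  rw [avg_fixed ρ htinv] at hε
  have hε2 : ε * ε = 1 := by
    have h2 := congrArg Matrix.transpose hε
    rw [Matrix.transpose_transpose, Matrix.transpose_smul, hε, smul_smul] at h2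
    exact (smul_left_injective ℂ hne
      (show (1 : ℂ) • (M0 : Matrix (Fin n) (Fin n) ℂ) = (ε * ε) • _ by rw [one_smul, ← h2])).symm
  have hnu : nu ρ.character = ε := by
    rw [← trace_trn_avg ρ]
    have : trn ∘ₗ avg ρ = ε • avg ρ := LinearMap.ext fun M => by
      obtain ⟨c, hc⟩ := hmult M
      simp [hc, hε, smul_smul, mul_comm]
    rw [this, map_smul, trace_avg, h, smul_eq_mul, mul_one]
  refine ⟨⟨M0, hne, hinv⟩, ?_, fun M hM => ?_⟩
  · rw [hnu]; exact mul_self_eq_one_iff.1 hε2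
  · obtain ⟨c, hc⟩ := hmult M
    rw [avg_fixed ρ hM] at hc
    rw [hnu, hc, Matrix.transpose_smul, hε, smul_comm]

omit n ρ in
open scoped Classical in
theorem avg_sq_irr (χ : Cfsg.IrrCharacter G) :
    (Nat.card G : ℂ)⁻¹ * ∑ g : G, (χ : G → ℂ) g ^ 2 =
      if ∀ g : G, ((χ : G → ℂ) g).im = 0 then 1 else 0 := by
  have : (Nat.card G : ℂ)⁻¹ * ∑ g : G, (χ : G → ℂ) g ^ 2 =
      Cfsg.classInner (χ : G → ℂ) (conjIrr χ : G → ℂ) := by
    simp [Cfsg.classInner, sq]
  rw [this, Characters.classInner_irr]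
  refine if_congr ⟨fun h g => ?_, fun h => ?_⟩ rfl rfl
  · have := congrArg (fun φ : Cfsg.IrrCharacter G => (φ : G → ℂ) g) h
    simp only [conjIrr_coe] at this
    exact Complex.conj_eq_iff_im.1 this.symm
  · exact Subtype.ext (funext fun g => (Complex.conj_eq_iff_im.2 (h g)).symm)

omit n ρ in
theorem nu_eq_zero_of_not_real (χ : Cfsg.IrrCharacter G)
    (h : ¬ ∀ g : G, ((χ : G → ℂ) g).im = 0) : nu (χ : G → ℂ) = 0 := by
  classical
  obtain ⟨m, σ, _, he⟩ := χ.2
  have h1 := avg_sq_irr χ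
  rw [if_neg h, ← he] at h1
  rw [← he]; exact (of_trace_zero σ h1).1

omit n ρ in
theorem nu_of_real (χ : Cfsg.IrrCharacter G)
    (h : ∀ g : G, ((χ : G → ℂ) g).im = 0) :
    nu (χ : G → ℂ) = 1 ∨ nu (χ : G → ℂ) = -1 := by
  classical
  obtain ⟨m, σ, _, he⟩ := χ.2
  have h1 := avg_sq_irr χ
  rw [if_pos h, ← he] at h1
  rw [← he]; exact (of_trace_one σ h1).2.1

omit n ρ in
theorem nu_trichotomy (χ : Cfsg.IrrCharacter G) :
    nu (χ : G → ℂ) = 0 ∨ nu (χ : G → ℂ) = 1 ∨ nu (χ : G → ℂ) = -1 := by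
  classical
  by_cases h : ∀ g : G, ((χ : G → ℂ) g).im = 0
  · exact Or.inr (nu_of_real χ h)
  · exact Or.inl (nu_eq_zero_of_not_real χ h)

omit n ρ in
theorem nu_ne_zero_iff (χ : Cfsg.IrrCharacter G) :
    nu (χ : G → ℂ) ≠ 0 ↔ ∀ g : G, ((χ : G → ℂ) g).im = 0 := by
  classical
  refine ⟨fun h => by_contra fun hn => h (nu_eq_zero_of_not_real χ hn), fun h => ?_⟩
  rcases nu_of_real χ h with e | e <;> simp [e]

omit n ρ in
/-- The number of solutions of `s * s = 1` is `∑ nu(χ) χ(1)`. -/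
theorem card_sq_eq_one [Fintype (Cfsg.IrrCharacter G)] :
    (Nat.card {s : G // s * s = 1} : ℂ) =
      ∑ χ : Cfsg.IrrCharacter G, nu (χ : G → ℂ) * (χ : G → ℂ) 1 := by
  classical
  simp only [nu, mul_assoc, ← Finset.mul_sum, Finset.sum_mul]
  rw [Finset.sum_comm]
  have h : ∀ s : G, ∑ χ : Cfsg.IrrCharacter G, (χ : G → ℂ) (s * s) * (χ : G → ℂ) 1 =
      if s * s = 1 then (Nat.card G : ℂ) else 0 := by
    intro s
    have h2 := Characters.second_orthogonality (s * s) (1 : G)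
    have hc : Nat.card (Subgroup.centralizer ({1} : Set G)) = Nat.card G := by
      rw [show Subgroup.centralizer ({1} : Set G) = ⊤ from by
        ext x; simp [Subgroup.mem_centralizer_iff], Subgroup.card_top]
    rw [hc] at h2
    convert h2 using 1
    · refine Finset.sum_congr rfl fun χ _ => ?_
      obtain ⟨k, hk⟩ := Characters.char_one_nat (Characters.irr_isCharacter χ)
      simp [hk]
    · simp [isConj_one_left]
  simp only [h, ← Finset.sum_filter, Finset.sum_const, nsmul_eq_mul]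
  rw [mul_comm ((Nat.card G : ℂ)⁻¹), mul_assoc,
    mul_inv_cancel₀ (Nat.cast_ne_zero.2 Nat.card_pos.ne'), mul_one]
  simp [Nat.card_eq_fintype_card, Fintype.card_subtype]

end Cfsg.Agent.FrobeniusSchur
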